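import Groth.Agent.Lib.BlowUp17.RegularAlg
import Groth.Agent.Lib.FibreFlat.RegularFlat
import Mathlib.RingTheory.Etale.Basic
import Mathlib.RingTheory.RingHom.Etale
import Mathlib.RingTheory.Flat.TorsionFree
import Mathlib.RingTheory.Regular.Flat

/-!
# Charts of the blow-up of a coordinate subspace along étale coordinates
-/

set_option autoImplicit false
set_option linter.all false
set_option backward.isDefEq.respectTransparency false
set_option maxHeartbeats 800000

universe u

open MvPolynomial TensorProduct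

namespace GrothLib.BlowPair8

open GrothLib.BlowUp GrothLib.BlowUp17

variable {R A : Type u} [CommRing R] [CommRing A] [Algebra R A] {r m : ℕ}
  (ψ : MvPolynomial (Fin r ⊕ Fin m) R →ₐ[R] A) (i : Fin r)

/-- The substitution `t_k ↦ t_i x_k`. -/
noncomputable def subst : MvPolynomial (Fin r ⊕ Fin m) R →ₐ[R] MvPolynomial (ULift.{u} (Fin r ⊕ Fin m)) R :=
  aeval (Sum.elim (fun k => if k = i then X ⟨Sum.inl i⟩ else X ⟨Sum.inl i⟩ * X ⟨Sum.inl k⟩) fun j => X ⟨Sum.inr j⟩)

theorem exists_subst_eq (q : MvPolynomial (ULift.{u} (Fin r ⊕ Fin m)) R) :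
    ∃ (N : ℕ) (p : MvPolynomial (Fin r ⊕ Fin m) R), X ⟨Sum.inl i⟩ ^ N * q = subst i p := by
  have ht : subst i (X (Sum.inl i)) = (X ⟨Sum.inl i⟩ : MvPolynomial (ULift.{u} (Fin r ⊕ Fin m)) R) := by
    simp [subst]
  induction q using MvPolynomial.induction_on with
  | C a => exact ⟨0, C a, by simp [subst]⟩
  | add q₁ q₂ h₁ h₂ =>
    obtain ⟨N₁, p₁, e₁⟩ := h₁
    obtain ⟨N₂, p₂, e₂⟩ := h₂
    refine ⟨N₁ + N₂, X (Sum.inl i) ^ N₂ * p₁ + X (Sum.inl i) ^ N₁ * p₂, ?_⟩
    rw [map_add, map_mul, map_mul, map_pow, map_pow, ht, ← e₁, ← e₂]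
    ring
  | mul_X q v h =>
    obtain ⟨N, p, e⟩ := h
    rcases v with ⟨k | j⟩
    · by_cases hk : k = i
      · subst hk
        exact ⟨N, p * X (Sum.inl k), by rw [map_mul, ht, ← e]; ring⟩
      · refine ⟨N + 1, p * X (Sum.inl k), ?_⟩
        rw [map_mul, ← e, show subst i (X (Sum.inl k)) =
          (X ⟨Sum.inl i⟩ * X ⟨Sum.inl k⟩ : MvPolynomial (ULift.{u} (Fin r ⊕ Fin m)) R) by simp [subst, hk]]
        ring
    · refine ⟨N, p * X (Sum.inr j), ?_⟩
      rw [map_mul, ← e, show subst i (X (Sum.inr j)) =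
        (X ⟨Sum.inr j⟩ : MvPolynomial (ULift.{u} (Fin r ⊕ Fin m)) R) by simp [subst]]
      ring

theorem subst_X_self : subst (R := R) (m := m) i (X (Sum.inl i)) = X ⟨Sum.inl i⟩ := by
  simp [subst]

theorem subst_X_inl {k : Fin r} (hk : k ≠ i) :
    subst (R := R) (m := m) i (X (Sum.inl k)) = X ⟨Sum.inl i⟩ * X ⟨Sum.inl k⟩ := by
  simp [subst, hk]

theorem subst_X_inr (j : Fin m) : subst (R := R) i (X (Sum.inr j)) = X ⟨Sum.inr j⟩ := by
  simp [subst]

/-- If fractions with powers of `x` exhaust `Q` and `x` is regular, then `Q ⊗ A` injects into `T`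
as soon as elements of `A` killed in `T` are killed by a power of `x`. -/
theorem injective_of_fractions {P Q A T : Type u} [CommRing P] [CommRing Q] [CommRing A] [CommRing T]
    [Algebra P Q] [Algebra P A] [Algebra P T] [Module.Flat P A] (x : P)
    (hx : algebraMap P Q x ∈ nonZeroDivisors Q)
    (hQ : ∀ q : Q, ∃ (N : ℕ) (p : P), algebraMap P Q x ^ N * q = algebraMap P Q p)
    (Θ : Q ⊗[P] A →ₐ[P] T)
    (hker : ∀ y : A, Θ ((1 : Q) ⊗ₜ[P] y) = 0 → ∃ M : ℕ, algebraMap P A x ^ M * y = 0) :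
    Function.Injective Θ := by
  have hti : algebraMap P Q x ⊗ₜ[P] (1 : A) = (1 : Q) ⊗ₜ[P] algebraMap P A x := by
    rw [Algebra.algebraMap_eq_smul_one, TensorProduct.smul_tmul, ← Algebra.algebraMap_eq_smul_one]
  have hfrac : ∀ d : Q ⊗[P] A, ∃ (N : ℕ) (y : A), (algebraMap P Q x ⊗ₜ[P] (1 : A)) ^ N * d = 1 ⊗ₜ y := by
    intro d
    induction d using TensorProduct.induction_on with
    | zero => exact ⟨0, 0, by simp⟩
    | tmul q y =>
      obtain ⟨N, p, e⟩ := hQ q
      refine ⟨N, algebraMap P A p * y, ?_⟩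
      rw [Algebra.TensorProduct.tmul_pow, one_pow, Algebra.TensorProduct.tmul_mul_tmul, e, one_mul]
      rw [Algebra.algebraMap_eq_smul_one, ← Algebra.smul_def, TensorProduct.smul_tmul]
    | add d₁ d₂ h₁ h₂ =>
      obtain ⟨N₁, x₁, e₁⟩ := h₁
      obtain ⟨N₂, x₂, e₂⟩ := h₂
      refine ⟨N₁ + N₂, algebraMap P A x ^ N₂ * x₁ + algebraMap P A x ^ N₁ * x₂, ?_⟩
      have e : ∀ (M : ℕ) (y : A), (1 : Q) ⊗ₜ[P] (algebraMap P A x ^ M * y) =
          (algebraMap P Q x ⊗ₜ[P] (1 : A)) ^ M * ((1 : Q) ⊗ₜ[P] y) := fun M y => by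
        rw [hti, Algebra.TensorProduct.tmul_pow, one_pow, Algebra.TensorProduct.tmul_mul_tmul, one_mul]
      rw [TensorProduct.tmul_add, e, e, ← e₁, ← e₂]
      ring
  rw [injective_iff_map_eq_zero]
  intro d hd
  obtain ⟨N, y, e⟩ := hfrac d
  obtain ⟨M, hM⟩ := hker y (by rw [← e, map_mul, hd, mul_zero])
  have hreg : IsSMulRegular (Q ⊗[P] A) (algebraMap P Q x ^ (M + N)) :=
    Module.Flat.isSMulRegular_of_nonZeroDivisors (pow_mem hx _)
  refine hreg ?_
  show (algebraMap P Q x ^ (M + N)) • d = (algebraMap P Q x ^ (M + N)) • 0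
  rw [smul_zero, Algebra.smul_def, map_pow, Algebra.TensorProduct.algebraMap_apply, Algebra.algebraMap_self,
    RingHom.id_apply, pow_add, mul_assoc, e, hti, Algebra.TensorProduct.tmul_pow, one_pow,
    Algebra.TensorProduct.tmul_mul_tmul, one_mul, hM, TensorProduct.tmul_zero]

/-- The map from affine space to the chart. -/
noncomputable def toChart : MvPolynomial (ULift.{u} (Fin r ⊕ Fin m)) R →+* Chart (fun k => ψ (X (Sum.inl k))) i :=
  eval₂Hom ((algebraMap A _).comp (algebraMap R A))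
    fun v => Sum.elim (fun k => if k = i then algebraMap A _ (ψ (X (Sum.inl i)))
        else fr (fun k => ψ (X (Sum.inl k))) i k)
      (fun j => algebraMap A _ (ψ (X (Sum.inr j)))) v.down

theorem toChart_subst (p : MvPolynomial (Fin r ⊕ Fin m) R) :
    toChart ψ i (subst i p) = algebraMap A _ (ψ p) := by
  induction p using MvPolynomial.induction_on with
  | C b => simp [toChart, subst]
  | add p q hp hq => rw [map_add, map_add, hp, hq, map_add, map_add]
  | mul_X p v hp =>
    rw [map_mul, map_mul, hp, map_mul, map_mul]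
    congr 1
    rcases v with k | j
    · by_cases hk : k = i
      · subst hk
        rw [subst_X_self]
        simp [toChart]
      · rw [subst_X_inl i hk, map_mul]
        simp only [toChart, eval₂Hom_X', Sum.elim_inl, if_pos, if_neg hk]
        exact mul_fr (fun k => ψ (X (Sum.inl k))) i k
    · rw [subst_X_inr]
      simp [toChart]

theorem etale_toChart (hψ : ψ.toRingHom.Etale) : (toChart ψ i).Etale := by
  classical
  let a : Fin r → A := fun k => ψ (X (Sum.inl k))
  letI : Algebra (MvPolynomial (Fin r ⊕ Fin m) R) (MvPolynomial (ULift.{u} (Fin r ⊕ Fin m)) R) :=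
    (subst i).toRingHom.toAlgebra
  letI : Algebra (MvPolynomial (Fin r ⊕ Fin m) R) A := ψ.toRingHom.toAlgebra
  haveI : Algebra.Etale (MvPolynomial (Fin r ⊕ Fin m) R) A := hψ
  letI : Algebra (MvPolynomial (Fin r ⊕ Fin m) R) (Chart a i) := ((algebraMap A _).comp ψ.toRingHom).toAlgebra
  haveI : IsScalarTower (MvPolynomial (Fin r ⊕ Fin m) R) A (Chart a i) := IsScalarTower.of_algebraMap_eq' rfl
  let Ψ : MvPolynomial (ULift.{u} (Fin r ⊕ Fin m)) R →ₐ[MvPolynomial (Fin r ⊕ Fin m) R] Chart a i :=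
    { toChart ψ i with commutes' := toChart_subst ψ i }
  let Θ := Algebra.TensorProduct.lift Ψ (IsScalarTower.toAlgHom (MvPolynomial (Fin r ⊕ Fin m) R) A (Chart a i))
    fun _ _ => Commute.all _ _
  have hΘl : ∀ q, Θ (q ⊗ₜ 1) = toChart ψ i q := fun q => by simp [Θ, Ψ]; rfl
  have hΘr : ∀ x, Θ (1 ⊗ₜ x) = algebraMap A (Chart a i) x := fun x => by simp [Θ]
  have hbij : Function.Bijective Θ := by
    refine ⟨injective_of_fractions (X (Sum.inl i)) ?_ ?_ Θ fun y hy => ?_, fun z => ?_⟩
    · show subst i (X (Sum.inl i)) ∈ _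
      rw [subst_X_self]
      exact MvPolynomial.isRegular_X.mem_nonZeroDivisors
    · intro q
      obtain ⟨N, p, e⟩ := exists_subst_eq i q
      refine ⟨N, p, ?_⟩
      show subst i (X (Sum.inl i)) ^ N * q = subst i p
      rw [subst_X_self, e]
    · rw [hΘr] at hy
      have h2 : algebraMap A (Localization.Away (a i)) y = 0 := congrArg Subtype.val hy
      obtain ⟨⟨_, M, rfl⟩, hM⟩ := (IsLocalization.map_eq_zero_iff (Submonoid.powers (a i)) _ _).1 h2
      exact ⟨M, hM⟩
    · obtain ⟨p, rfl⟩ := pres_surjective a i z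
      induction p using MvPolynomial.induction_on with
      | C x => exact ⟨1 ⊗ₜ x, by rw [hΘr]; simp [pres]⟩
      | add p q hp hq =>
        obtain ⟨d, hd⟩ := hp
        obtain ⟨e, he⟩ := hq
        exact ⟨d + e, by rw [map_add, map_add, hd, he]⟩
      | mul_X p v hp =>
        obtain ⟨d, hd⟩ := hp
        refine ⟨d * (X ⟨Sum.inl v.1⟩ ⊗ₜ 1), ?_⟩
        rw [map_mul, map_mul, hd, hΘl]
        simp [toChart, pres, v.2, a]
  have h2 : toChart ψ i = Θ.toRingHom.comp
      (algebraMap (MvPolynomial (ULift.{u} (Fin r ⊕ Fin m)) R) _) :=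
    RingHom.ext fun q => (hΘl q).symm
  rw [h2]
  exact RingHom.Etale.stableUnderComposition _ _ (RingHom.etale_algebraMap.2 inferInstance)
    (RingHom.Etale.of_bijective hbij)

/-- The chart of the blow-up in étale coordinates is étale over affine space, hence smooth over the base. -/
theorem smooth_chart (hψ : ψ.toRingHom.Etale) :
    ((algebraMap A (Chart (fun k => ψ (X (Sum.inl k))) i)).comp (algebraMap R A)).Smooth := by
  have h3 : (algebraMap A (Chart (fun k => ψ (X (Sum.inl k))) i)).comp (algebraMap R A) =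
      (toChart ψ i).comp (algebraMap R (MvPolynomial (ULift.{u} (Fin r ⊕ Fin m)) R)) := by
    ext b
    simp [toChart]
  rw [h3]
  refine RingHom.Smooth.comp ((RingHom.smooth_algebraMap).2 ⟨inferInstance, inferInstance⟩) ?_
  have h := etale_toChart ψ i hψ
  letI := (toChart ψ i).toAlgebra
  haveI : Algebra.Etale (MvPolynomial (ULift.{u} (Fin r ⊕ Fin m)) R) (Chart (fun k => ψ (X (Sum.inl k))) i) := h
  exact (RingHom.smooth_algebraMap (R := MvPolynomial (ULift.{u} (Fin r ⊕ Fin m)) R)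
    (S := Chart (fun k => ψ (X (Sum.inl k))) i)).2 inferInstance

/-- The first coordinates form a weakly regular sequence. -/
theorem isWeaklyRegular (hψ : ψ.toRingHom.Flat) :
    RingTheory.Sequence.IsWeaklyRegular A (List.ofFn fun k => ψ (X (Sum.inl k))) := by
  let e := sumAlgEquiv R (Fin r) (Fin m)
  let φ : MvPolynomial (Fin r) (MvPolynomial (Fin m) R) →+* A := ψ.toRingHom.comp e.symm.toRingEquiv.toRingHom
  have hφ : φ.Flat := RingHom.Flat.comp (RingHom.Flat.of_bijective e.symm.bijective) hψ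
  letI := φ.toAlgebra
  haveI : Module.Flat (MvPolynomial (Fin r) (MvPolynomial (Fin m) R)) A := hφ
  have h := (GrothLib.FibreFlat.isWeaklyRegular_X (MvPolynomial (Fin m) R) r).of_flat (S := A)
  rw [List.map_ofFn] at h
  convert h using 2
  funext k
  show ψ (X (Sum.inl k)) = ψ (e.symm (X k))
  congr 1
  exact (e.symm_apply_eq.2 (by simp [e])).symm

end GrothLib.BlowPair8
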