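import Groth.Agent.Lib.BlowPair8.Chart
import Groth.Agent.S2818
import Mathlib.AlgebraicGeometry.Morphisms.Smooth
import Mathlib.AlgebraicGeometry.IdealSheaf.Subscheme
import Mathlib.RingTheory.Smooth.Locus

/-!
# Étale coordinates adapted to a pair of smooth schemes
-/

set_option autoImplicit false
set_option linter.all false
set_option backward.isDefEq.respectTransparency false
set_option maxHeartbeats 1600000

universe u

open CategoryTheory AlgebraicGeometry TensorProduct MvPolynomial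

namespace GrothLib.BlowPair8

/-- Elements of an ideal forming a minimal generating system at a prime. -/
theorem exists_min_gens {B : Type u} [CommRing B] {J : Ideal B} (hJ : J.FG) (q : Ideal B) [q.IsPrime] :
    ∃ (r : ℕ) (g : Fin r → B), (∀ i, g i ∈ J) ∧
      J.map (algebraMap B (Localization.AtPrime q)) =
        Ideal.span (Set.range fun i => algebraMap B (Localization.AtPrime q) (g i)) ∧
      r = Module.finrank q.ResidueField (q.ResidueField ⊗[B] J) := by
  classical
  haveI : Module.Finite B J := Module.Finite.of_fg hJ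
  let v : J → q.ResidueField ⊗[B] J := fun x => 1 ⊗ₜ x
  have hv : Submodule.span q.ResidueField (Set.range v) = ⊤ := by
    rw [eq_top_iff]
    rintro z -
    induction z using TensorProduct.induction_on with
    | zero => exact Submodule.zero_mem _
    | tmul k x =>
      rw [show k ⊗ₜ[B] x = k • v x by simp [v, TensorProduct.smul_tmul']]
      exact Submodule.smul_mem _ _ (Submodule.subset_span ⟨x, rfl⟩)
    | add a b ha hb => exact Submodule.add_mem _ ha hb
  obtain ⟨s, hs, hspan, hli⟩ := exists_linearIndependent q.ResidueField (Set.range v)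
  rw [hv] at hspan
  haveI : Finite s := LinearIndependent.finite hli
  haveI := Fintype.ofFinite s
  let e := (Fintype.equivFin s).symm
  choose g hg using fun i => hs (e i).2
  have hrange : (Set.range fun i => v (g i)) = s := by
    ext z
    exact ⟨fun ⟨i, hi⟩ => hi ▸ (show v (g i) ∈ s by rw [hg i]; exact (e i).2),
      fun hz => ⟨e.symm ⟨z, hz⟩, by simp [hg]⟩⟩
  refine ⟨_, fun i => (g i).1, fun i => (g i).2, ?_, ?_⟩
  · let C := Localization.AtPrime q
    let w : Fin (Fintype.card s) → C ⊗[B] J := fun i => 1 ⊗ₜ g i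
    have hN : Submodule.span C (Set.range w) = ⊤ := by
      rw [← IsLocalRing.map_tensorProduct_mk_eq_top, Submodule.map_span, ← Set.range_comp]
      let E := TensorProduct.AlgebraTensorModule.cancelBaseChange B C q.ResidueField q.ResidueField J
      have hE : (E : _ → _) ∘ (TensorProduct.mk C q.ResidueField (C ⊗[B] J) 1 ∘ w) = fun i => v (g i) := by
        funext i
        simp [E, w, v]
      have h1 : Submodule.span q.ResidueField (Set.range (TensorProduct.mk C q.ResidueField (C ⊗[B] J) 1 ∘ w)) = ⊤ := by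
        refine Submodule.map_injective_of_injective (f := E.toLinearMap) E.injective ?_
        rw [Submodule.map_span, ← Set.range_comp, LinearEquiv.coe_coe, hE, hrange, hspan,
          Submodule.map_top, LinearEquiv.range]
      have h2 := congrArg (Submodule.restrictScalars C) h1
      rw [Submodule.restrictScalars_span C q.ResidueField IsLocalRing.residue_surjective,
        Submodule.restrictScalars_top] at h2
      exact h2
    refine le_antisymm ?_ (Ideal.span_le.2 ?_)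
    · rw [Ideal.map_le_iff_le_comap]
      intro x hx
      let F : C ⊗[B] J →ₗ[C] C := LinearMap.liftBaseChange C ((Algebra.linearMap B C).comp J.subtype)
      have h := (hN.ge (Submodule.mem_top (x := (1 : C) ⊗ₜ[B] (⟨x, hx⟩ : J))))
      have h' := Submodule.mem_map_of_mem (f := F) h
      rw [Submodule.map_span, ← Set.range_comp] at h'
      have e1 : (F : _ → _) ∘ w = fun i => algebraMap B C (g i).1 := by
        funext i; simp [F, w]
      rw [e1] at h'
      simpa [F] using h'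
    · rintro _ ⟨i, rfl⟩
      exact Ideal.mem_map_of_mem _ (g i).2
  · rw [← finrank_top, ← hspan, finrank_span_set_eq_card hli, ← Set.toFinset_card]

/-- Étale coordinates adapted to a closed subscheme smooth over the base. -/
theorem exists_coords {Z X S : Scheme.{u}} (q : X ⟶ S) [Smooth q] (i : Z ⟶ X) [IsClosedImmersion i]
    [Smooth (i ≫ q)] (z : Z) :
    ∃ (S₀ : S.Opens) (_ : IsAffineOpen S₀) (U : X.Opens) (hU : IsAffineOpen U) (e : U ≤ q ⁻¹ᵁ S₀) (r m : ℕ)
      (ψ : @AlgHom Γ(S, S₀) (MvPolynomial (Fin r ⊕ Fin m) Γ(S, S₀)) Γ(X, U) _ _ _ _ (q.appLE S₀ U e).hom.toAlgebra),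
      i z ∈ U ∧
      (letI := (q.appLE S₀ U e).hom.toAlgebra; ψ.toRingHom.Etale) ∧
      i.ker.ideal ⟨U, hU⟩ = Ideal.span (Set.range fun k => ψ (MvPolynomial.X (Sum.inl k))) := by
  classical
  obtain ⟨S₀, hS₀, hzS, -⟩ := exists_isAffineOpen_mem_and_subset (x := q (i z)) (U := (⊤ : S.Opens)) trivial
  obtain ⟨U₀, hU₀, hzU, hle⟩ := exists_isAffineOpen_mem_and_subset (x := i z) (U := q ⁻¹ᵁ S₀) hzS
  let e₀ : U₀ ≤ q ⁻¹ᵁ S₀ := hle
  have hW : IsAffineOpen (i ⁻¹ᵁ U₀) := hU₀.preimage i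
  let J := i.ker.ideal ⟨U₀, hU₀⟩
  letI := (q.appLE S₀ U₀ e₀).hom.toAlgebra
  haveI : Algebra.Smooth Γ(S, S₀) Γ(X, U₀) := q.smooth_appLE hS₀ hU₀ e₀
  have hsur : Function.Surjective (i.app U₀).hom := i.app_surjective U₀ hU₀
  have hker : RingHom.ker (i.app U₀).hom = J := (Scheme.Hom.ker_apply i ⟨U₀, hU₀⟩).symm
  letI : Algebra Γ(S, S₀) Γ(Z, i ⁻¹ᵁ U₀) := ((i.app U₀).hom.comp (algebraMap Γ(S, S₀) Γ(X, U₀))).toAlgebra
  let f : Γ(X, U₀) →ₐ[Γ(S, S₀)] Γ(Z, i ⁻¹ᵁ U₀) := ⟨(i.app U₀).hom, fun _ => rfl⟩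
  haveI : Algebra.Smooth Γ(S, S₀) Γ(Z, i ⁻¹ᵁ U₀) := by
    have h := (i ≫ q).smooth_appLE hS₀ hW (fun x hx => e₀ hx)
    rw [← Scheme.Hom.appLE_comp_appLE i q S₀ U₀ (i ⁻¹ᵁ U₀) e₀ le_rfl, Scheme.Hom.appLE_eq_app, CommRingCat.hom_comp] at h
    exact h
  have hJ : J.FG := hker ▸ Algebra.FinitePresentation.ker_fG_of_surjective f hsur
  let p := (hU₀.primeIdealOf ⟨i z, hzU⟩).asIdeal
  let eq : (Γ(X, U₀) ⧸ J) ≃ₐ[Γ(S, S₀)] Γ(Z, i ⁻¹ᵁ U₀) :=
    (Ideal.quotientEquivAlgOfEq Γ(S, S₀) (show J = RingHom.ker f from hker.symm)).trans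
      (Ideal.quotientKerAlgEquivOfSurjective hsur)
  haveI : Algebra.Smooth Γ(S, S₀) (Γ(X, U₀) ⧸ J) := Algebra.Smooth.of_equiv eq.symm
  have hmem : ∀ x : Γ(X, U₀), x ∉ p → i z ∈ X.basicOpen x := fun x hx => by
    have h1 : hU₀.primeIdealOf ⟨i z, hzU⟩ ∈ hU₀.fromSpec ⁻¹ᵁ X.basicOpen x := by
      rw [hU₀.fromSpec_preimage_basicOpen]; exact hx
    have h2 : hU₀.fromSpec (hU₀.primeIdealOf ⟨i z, hzU⟩) ∈ X.basicOpen x := h1
    rwa [hU₀.fromSpec_primeIdealOf] at h2
  have hJp : J ≤ p := by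
    intro x hx
    rw [← hker, RingHom.mem_ker] at hx
    by_contra hxp
    have : i z ∈ X.basicOpen x := hmem x hxp
    have h2 : z ∈ Z.basicOpen (i.app U₀ x) := by rw [← Scheme.preimage_basicOpen]; exact this
    rw [show i.app U₀ x = 0 from hx, Scheme.basicOpen_zero] at h2
    exact h2
  let Q := p.map (Ideal.Quotient.mk J)
  haveI : Q.IsPrime := Ideal.map_isPrime_of_surjective Ideal.Quotient.mk_surjective (by rwa [Ideal.mk_ker])
  have hQ : Q.comap (Ideal.Quotient.mk J) = p := by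
    rw [Ideal.comap_map_of_surjective _ Ideal.Quotient.mk_surjective, sup_eq_left]
    intro x hx
    exact hJp (Ideal.Quotient.eq_zero_iff_mem.1 (Ideal.mem_comap.1 hx))
  obtain ⟨r, g, hg, hgen, hmin⟩ := exists_min_gens hJ p
  obtain ⟨h, hh, m, g', het, hJh⟩ :=
    Groth.Agent.S2818.result Γ(S, S₀) Γ(X, U₀) J hJ p hJp Q hQ r g hg hgen hmin
  let U := X.basicOpen h
  have hU : IsAffineOpen U := hU₀.basicOpen h
  have hUle : U ≤ U₀ := X.basicOpen_le h
  have hzh : i z ∈ U := hmem h hh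
  haveI : IsLocalization.Away h Γ(X, U) := hU₀.isLocalization_basicOpen h
  let e : U ≤ q ⁻¹ᵁ S₀ := hUle.trans e₀
  letI := (q.appLE S₀ U e).hom.toAlgebra
  let E := IsLocalization.algEquiv (Submonoid.powers h) (Localization.Away h) Γ(X, U)
  haveI : IsScalarTower Γ(S, S₀) Γ(X, U₀) Γ(X, U) :=
    IsScalarTower.of_algebraMap_eq' (congrArg (fun φ => φ.hom) (q.appLE_map e₀ (homOfLE hUle).op).symm)
  let E' : Localization.Away h ≃ₐ[Γ(S, S₀)] Γ(X, U) := E.restrictScalars Γ(S, S₀)
  let ψ₀ : MvPolynomial (Fin r ⊕ Fin m) Γ(S, S₀) →ₐ[Γ(S, S₀)] Localization.Away h :=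
    aeval (Sum.elim (fun k => algebraMap Γ(X, U₀) (Localization.Away h) (g k)) g')
  refine ⟨S₀, hS₀, U, hU, e, r, m, E'.toAlgHom.comp ψ₀, hzh, ?_, ?_⟩
  · exact RingHom.Etale.stableUnderComposition _ _ het (RingHom.Etale.of_bijective E'.bijective)
  · show i.ker.ideal (X.affineBasicOpen (U := ⟨U₀, hU₀⟩) h) = _
    rw [← i.ker.map_ideal_basicOpen ⟨U₀, hU₀⟩ h]
    show J.map (algebraMap Γ(X, U₀) Γ(X, U)) = _
    rw [← E.toAlgHom.comp_algebraMap, ← Ideal.map_map, hJh, Ideal.map_span, ← Set.range_comp]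
    congr 2
    funext k
    simp [ψ₀, E']

end GrothLib.BlowPair8
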